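import Groth.Agent.CentreDescLib.Factor

/-!
A largest central subgroup of multiplicative type descends along an fpqc covering.
-/

set_option autoImplicit false
set_option backward.isDefEq.respectTransparency false

noncomputable section

universe u

open CategoryTheory CategoryTheory.Limits MonoidalCategory CartesianMonoidalCategory AlgebraicGeometry
open scoped MonObj

namespace Groth.Agent.CentreDesc

variable {S S' : Scheme.{u}} (π : S' ⟶ S) {G : Over S} [GrpObj G]

/-- Every central homomorphism from a group of multiplicative type factors through the subgroup, universally. -/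
def Univ {Z' : Over S'} (z' : Z' ⟶ Red.bc π G) : Prop :=
  ∀ (T : Scheme.{u}) (f' : T ⟶ S') (H : Over T) [GrpObj H] (v : H ⟶ Red.bc f' (Red.bc π G)) [IsMonHom v],
    SGA3x.IsMultTypeFT H → MultLift.Central v → ∃ w : H ⟶ Red.bc f' Z', w ≫ (Over.pullback f').map z' = v

theorem central_comp_iso {T : Scheme.{u}} {H A B : Over T} [GrpObj A] [GrpObj B] {v : H ⟶ A}
    (hv : MultLift.Central v) (e : A ⟶ B) [IsMonHom e] [IsIso e] : MultLift.Central (v ≫ e) := by
  intro X g y
  obtain ⟨g₀, rfl⟩ : ∃ g₀, g₀ ≫ e = g := ⟨g ≫ inv e, by rw [Category.assoc, IsIso.inv_hom_id, Category.comp_id]⟩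
  have h := congrArg (· ≫ e) (hv X g₀ y)
  simp only [MonObj.mul_comp, Category.assoc] at h
  exact h

variable {Z' : Over S'} [GrpObj Z'] (z' : Z' ⟶ Red.bc π G) [IsMonHom z'] [Mono z']
  (hZ : SGA3x.IsMultTypeFT Z') (hc : MultLift.Central z') (hu : Univ π z')

include hZ hc hu in
omit [Mono z'] in
/-- The points over one lift of a point of the base are points over any other. -/
theorem swap {T : Scheme.{u}} (x₀ x₁ : T ⟶ S') (hx : x₀ ≫ π = x₁ ≫ π) (v : T ⟶ Z'.left) (hv : v ≫ Z'.hom = x₀) :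
    ∃ v' : T ⟶ Z'.left, v' ≫ Z'.hom = x₁ ∧
      v' ≫ z'.left ≫ pullback.fst G.hom π = v ≫ z'.left ≫ pullback.fst G.hom π := by
  let p := x₀ ≫ π
  let b := ActBC.bcCompIso x₁ π G (d := p) hx.symm
  haveI : IsMonHom b.hom := ActBC.bcCompIso_isMonHom _ _ _
  haveI : IsMonHom b.inv := inferInstance
  haveI : IsMonHom (SubDesc.iP π z' x₀ p rfl) := SubDesc.isMonHom_iP π z' _ _ _
  obtain ⟨w, hw⟩ := hu T x₁ (Red.bc x₀ Z') (SubDesc.iP π z' x₀ p rfl ≫ b.inv) (DescHom.isMultTypeFT_bc hZ x₀)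
    (central_comp_iso (SubDesc.central_iP π z' hc _ _ _) b.inv)
  have hw' : w ≫ SubDesc.iP π z' x₁ p hx.symm = SubDesc.iP π z' x₀ p rfl := by
    show w ≫ (Over.pullback x₁).map z' ≫ b.hom = _
    rw [reassoc_of% hw, Iso.inv_hom_id, Category.comp_id]
  let y : T ⟶ pullback Z'.hom x₀ := pullback.lift v (𝟙 T) (by rw [hv, Category.id_comp])
  let yw : T ⟶ pullback Z'.hom x₁ := y ≫ w.left
  have hyw : yw ≫ pullback.snd Z'.hom x₁ = 𝟙 T := by
    show (y ≫ w.left) ≫ (Red.bc x₁ Z').hom = _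
    rw [Category.assoc, Over.w w]
    exact pullback.lift_snd _ _ _
  refine ⟨yw ≫ pullback.fst Z'.hom x₁, ?_, ?_⟩
  · rw [Category.assoc, pullback.condition, reassoc_of% hyw]
  · have h1 := congrArg (fun q => y ≫ Over.Hom.left q ≫ pullback.fst G.hom p) hw'
    simp only [Over.comp_left, Category.assoc, SubDesc.iP_fst] at h1
    show ((y ≫ w.left) ≫ pullback.fst Z'.hom x₁) ≫ _ = _
    simp only [Category.assoc]
    refine h1.trans ?_
    show pullback.lift v (𝟙 T) _ ≫ _ = _
    rw [pullback.lift_fst_assoc]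

variable [Flat π] [Surjective π]
  (hcov : ∀ V : S.Opens, IsAffineOpen V → ∃ W : S'.Opens, IsCompact (W : Set S') ∧ π.base '' (W : Set S') = (V : Set S))

include hcov in
/-- A group of multiplicative type over the covering gives one over the base. -/
theorem isMultTypeFT_of_bc {U : Over S} [GrpObj U] (θ : Red.bc π U ≅ Z') [IsMonHom θ.hom]
    (h : SGA3x.IsMultTypeFT Z') : SGA3x.IsMultTypeFT U := by
  obtain ⟨S'', f, hflat, hsurj, hcovf, hloc⟩ := h
  haveI := hflat
  haveI := hsurj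
  refine ⟨S'', f ≫ π, inferInstance, inferInstance, SubDesc.hcov_comp π f hcovf hcov, fun z => ?_⟩
  obtain ⟨V, hzV, M, hM, hfg, ⟨e⟩⟩ := hloc z
  let g := V.ι ≫ f
  let e₁ : Red.bc g Z' ≅ Red.DS (V : Scheme.{u}) M := (Grp.forget _).mapIso e
  haveI : IsMonHom e₁.hom := e.hom.hom.isMonHom_hom
  let b : Red.bc g (Red.bc π U) ≅ Red.bc (V.ι ≫ f ≫ π) U := ActBC.bcCompIso g π U (Category.assoc _ _ _)
  haveI : IsMonHom b.hom := ActBC.bcCompIso_isMonHom _ _ _
  haveI : IsMonHom b.inv := inferInstance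
  haveI : IsMonHom (M := Red.bc g (Red.bc π U)) (N := Red.bc g Z') ((Over.pullback g).map θ.hom) :=
    DiagRep.isMonHom_bc_map g θ.hom
  let w : Red.bc (V.ι ≫ f ≫ π) U ≅ Red.DS (V : Scheme.{u}) M := b.symm ≪≫ (Over.pullback g).mapIso θ ≪≫ e₁
  haveI : IsMonHom w.hom := by
    show IsMonHom (b.inv ≫ (Over.pullback g).map θ.hom ≫ e₁.hom)
    infer_instance
  exact ⟨V, hzV, M, hM, hfg, ⟨Grp.mkIso' w⟩⟩

include hZ hc hu hcov in
/-- The subgroup descends, with its universal property. -/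
theorem exists_centre : ∃ (Z : Over S) (_ : GrpObj Z) (z : Z ⟶ G), (IsMonHom z ∧ Mono z ∧ SGA3x.IsMultTypeFT Z ∧
    (∀ (X : Over S) (x : X ⟶ Z) (g : X ⟶ G), (x ≫ z) * g = g * (x ≫ z)) ∧
    ∀ (T : Scheme.{u}) (f : T ⟶ S) (H : Over T) [GrpObj H] (v : H ⟶ Red.bc f G) [IsMonHom v],
      SGA3x.IsMultTypeFT H →
      (∀ (X : Over T) (x : X ⟶ H) (g : X ⟶ Red.bc f G), (x ≫ v) * g = g * (x ≫ v)) →
      ∃ w : H ⟶ Red.bc f Z, w ≫ (Over.pullback f).map z = v) := by
  haveI : IsAffineHom Z'.hom := MultEq.isAffineHom_of_isMultTypeFT hZ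
  obtain ⟨U, j, θ, hmono, hθ⟩ := exists_descend π hcov z' fun x₀ x₁ hx v hv => swap π z' hZ hc hu x₀ x₁ hx v hv
  haveI := hmono
  let F := Over.pullback π
  have hback : ∀ {Y : Over S} (y : Y ⟶ G), (∃ a : Red.bc π Y ⟶ Z', a ≫ z' = F.map y) → ∃ h : Y ⟶ U, h ≫ j = y := by
    intro Y y ⟨a, ha⟩
    refine factor π hcov j y ((a ≫ θ.inv).left ≫ pullback.fst U.hom π) ?_
    rw [Category.assoc, ← ActBC.pullback_map_left_fst π j, ← Category.assoc, ← Over.comp_left, ← hθ,
      Category.assoc, Iso.inv_hom_id_assoc, ha, ActBC.pullback_map_left_fst]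
  have hpt : ∀ {Y : Over S} (a : Y ⟶ U), F.map (a ≫ j) = (F.map a ≫ θ.hom) ≫ z' := fun a => by
    rw [F.map_comp, Category.assoc, hθ]
  have hmap1 : ∀ {Y : Over S}, F.map (1 : Y ⟶ G) = (1 : Red.bc π Y ⟶ Red.bc π G) := fun {Y} => by
    have h := Functor.map_mul F (1 : Y ⟶ G) 1
    rw [one_mul] at h
    exact left_eq_mul.1 h
  have hm := hback ((fst U U ≫ j) * (snd U U ≫ j))
    ⟨(F.map (fst U U) ≫ θ.hom) * (F.map (snd U U) ≫ θ.hom), by
      rw [MonObj.mul_comp, ← hpt, ← hpt]; exact (Functor.map_mul F _ _).symm⟩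
  have he := hback (1 : 𝟙_ (Over S) ⟶ G) ⟨1, by rw [MonObj.one_comp, hmap1]⟩
  have hn := hback j⁻¹ ⟨θ.hom⁻¹, by
    rw [GrpObj.inv_comp, hθ]
    refine inv_eq_of_mul_eq_one_left ?_
    exact (Functor.map_mul F j⁻¹ j).symm.trans ((congrArg F.map (inv_mul_cancel j)).trans hmap1)⟩
  obtain ⟨I, hj⟩ := SubDesc.exists_grpObj_of_mono j hm he hn
  letI := I
  haveI := hj
  haveI : IsMonHom (M := Red.bc π U) (N := Red.bc π G) (F.map j) := DiagRep.isMonHom_bc_map π j
  haveI : IsMonHom (M := Red.bc π U) (N := Red.bc π G) (θ.hom ≫ z') := by rw [hθ]; infer_instance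
  haveI : IsMonHom θ.hom := DiagRep.isMonHom_of_comp_mono θ.hom z'
  refine ⟨U, I, j, hj, hmono, isMultTypeFT_of_bc π hcov θ hZ, fun X x g => ?_, fun T f H _ v _ hH hv => ?_⟩
  · refine map_injective π hcov _ _ ?_
    have h := hc (Red.bc π X) (F.map g) (F.map x ≫ θ.hom)
    rw [Category.assoc, hθ, ← F.map_comp] at h
    exact (Functor.map_mul F _ _).trans (h.symm.trans (Functor.map_mul F _ _).symm)
  · let q₁ : pullback f π ⟶ T := pullback.fst f π
    let q₂ : pullback f π ⟶ S' := pullback.snd f π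
    let b₁ := ActBC.bcCompIso q₁ f G (d := q₁ ≫ f) rfl
    let b₂ := ActBC.bcCompIso q₂ π G (d := q₁ ≫ f) pullback.condition.symm
    haveI : IsMonHom b₁.hom := ActBC.bcCompIso_isMonHom _ _ _
    haveI : IsMonHom b₂.hom := ActBC.bcCompIso_isMonHom _ _ _
    haveI : IsMonHom b₂.inv := inferInstance
    haveI : IsMonHom (M := Red.bc q₁ H) (N := Red.bc q₁ (Red.bc f G)) ((Over.pullback q₁).map v) :=
      DiagRep.isMonHom_bc_map q₁ v
    have hcen : MultLift.Central v := fun X g x => (hv X x g).symm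
    obtain ⟨w', hw'⟩ := hu (pullback f π) q₂ (Red.bc q₁ H) (((Over.pullback q₁).map v ≫ b₁.hom) ≫ b₂.inv)
      (DescHom.isMultTypeFT_bc hH q₁)
      (central_comp_iso (central_comp_iso (MultLift.central_bc q₁ hcen) b₁.hom) b₂.inv)
    have key : w'.left ≫ pullback.fst Z'.hom q₂ ≫ z'.left ≫ pullback.fst G.hom π =
        pullback.fst H.hom q₁ ≫ v.left ≫ pullback.fst G.hom f := by
      have h1 : w' ≫ (Over.pullback q₂).map z' ≫ b₂.hom = (Over.pullback q₁).map v ≫ b₁.hom := by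
        rw [reassoc_of% hw', Iso.inv_hom_id, Category.comp_id]
      have h2 := congrArg (fun q => Over.Hom.left q ≫ pullback.fst G.hom (q₁ ≫ f)) h1
      simp only [Over.comp_left, Category.assoc, b₁, b₂, ActBC.bcCompIso_hom_left_fst] at h2
      rw [ActBC.pullback_map_left_fst_assoc, ActBC.pullback_map_left_fst_assoc] at h2
      exact h2
    let Y : Over S := Over.mk (H.hom ≫ f)
    have hyw : v.left ≫ pullback.snd G.hom f = H.hom := Over.w v
    let y : Y ⟶ G := Over.homMk (v.left ≫ pullback.fst G.hom f) (by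
      show (v.left ≫ pullback.fst G.hom f) ≫ G.hom = H.hom ≫ f
      rw [Category.assoc, pullback.condition, reassoc_of% hyw])
    let l : pullback Y.hom π ⟶ pullback H.hom q₁ := pullback.lift (pullback.fst Y.hom π)
      (pullback.lift (pullback.fst Y.hom π ≫ H.hom) (pullback.snd Y.hom π) (by
        rw [Category.assoc]; exact pullback.condition))
      (pullback.lift_fst _ _ _).symm
    have hw₂ : w'.left ≫ pullback.snd Z'.hom q₂ = pullback.snd H.hom q₁ := Over.w w'
    let a : Red.bc π Y ⟶ Z' := Over.homMk (l ≫ w'.left ≫ pullback.fst Z'.hom q₂) (by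
      show (l ≫ w'.left ≫ pullback.fst Z'.hom q₂) ≫ Z'.hom = pullback.snd Y.hom π
      rw [Category.assoc, Category.assoc, pullback.condition, reassoc_of% hw₂, pullback.lift_snd_assoc,
        pullback.lift_snd])
    obtain ⟨h, hh⟩ := hback y ⟨a, by
      refine Over.OverMorphism.ext (pullback.hom_ext ?_ ?_)
      · rw [ActBC.pullback_map_left_fst, Over.comp_left]
        show ((l ≫ w'.left ≫ pullback.fst Z'.hom q₂) ≫ z'.left) ≫ pullback.fst G.hom π = _
        rw [Category.assoc, Category.assoc, Category.assoc, key, pullback.lift_fst_assoc]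
        rfl
      · exact (Over.w (a ≫ z')).trans (Over.w (F.map y)).symm⟩
    let w : H ⟶ Red.bc f U := Over.homMk (pullback.lift h.left H.hom (Over.w h)) (pullback.lift_snd _ _ _)
    refine ⟨w, Over.OverMorphism.ext (pullback.hom_ext ?_ ?_)⟩
    · rw [Over.comp_left, Category.assoc, ActBC.pullback_map_left_fst]
      show pullback.lift h.left H.hom _ ≫ _ = _
      rw [pullback.lift_fst_assoc]
      exact congrArg Over.Hom.left hh
    · exact (Over.w (w ≫ (Over.pullback f).map j)).trans (Over.w v).symm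

end Groth.Agent.CentreDesc
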