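import Groth.Agent.SubDescLib.Main

/-!
Descent of a subobject given by a monomorphism, and factorisation through monomorphisms.
-/

set_option autoImplicit false
set_option backward.isDefEq.respectTransparency false

noncomputable section

universe u

open CategoryTheory CategoryTheory.Limits MonoidalCategory CartesianMonoidalCategory AlgebraicGeometry
open scoped MonObj

namespace Groth.Agent.CentreDesc

variable {S S' : Scheme.{u}} (π : S' ⟶ S) [Flat π] [Surjective π]
  (hcov : ∀ V : S.Opens, IsAffineOpen V → ∃ W : S'.Opens, IsCompact (W : Set S') ∧ π.base '' (W : Set S') = (V : Set S))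

include hcov in
/-- Factoring through a monomorphism is local for the covering. -/
theorem factor {U G Y : Over S} (j : U ⟶ G) [Mono j] (y : Y ⟶ G) (v : pullback Y.hom π ⟶ U.left)
    (hv : v ≫ j.left = pullback.fst Y.hom π ≫ y.left) : ∃ h : Y ⟶ U, h ≫ j = y := by
  haveI : EffectiveEpi (pullback.fst Y.hom π) := DescHom.effectiveEpi_pullback_fst π hcov Y.hom
  let h : Y.left ⟶ U.left := EffectiveEpi.desc (pullback.fst Y.hom π) v fun g₁ g₂ hg => by
    rw [← cancel_mono j.left, Category.assoc, Category.assoc, hv, ← Category.assoc, ← Category.assoc, hg]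
  have hh : pullback.fst Y.hom π ≫ h = v := EffectiveEpi.fac _ _ _
  have hj : h ≫ j.left = y.left := by
    rw [← cancel_epi (pullback.fst Y.hom π), ← Category.assoc, hh, hv]
  refine ⟨Over.homMk h ?_, Over.OverMorphism.ext hj⟩
  show h ≫ U.hom = Y.hom
  rw [← Over.w j, ← Category.assoc, hj, Over.w y]

include hcov in
/-- The base change to the covering is faithful. -/
theorem map_injective {X Y : Over S} (a b : X ⟶ Y) (h : (Over.pullback π).map a = (Over.pullback π).map b) :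
    a = b := by
  haveI : EffectiveEpi (pullback.fst X.hom π) := DescHom.effectiveEpi_pullback_fst π hcov X.hom
  refine Over.OverMorphism.ext ((cancel_epi (pullback.fst X.hom π)).1 ?_)
  rw [← ActBC.pullback_map_left_fst, ← ActBC.pullback_map_left_fst, h]

variable {G : Over S} {H' : Over S'} (j' : H' ⟶ Red.bc π G) [Mono j']

omit [Flat π] [Surjective π] in
theorem lift_ext {T : Scheme.{u}} (v w : T ⟶ H'.left) (h₁ : v ≫ H'.hom = w ≫ H'.hom)
    (h₂ : v ≫ j'.left ≫ pullback.fst G.hom π = w ≫ j'.left ≫ pullback.fst G.hom π) : v = w := by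
  haveI : Mono j'.left := Over.mono_left_of_mono j'
  rw [← cancel_mono j'.left]
  refine pullback.hom_ext (by rw [Category.assoc, Category.assoc, h₂]) ?_
  have e : j'.left ≫ pullback.snd G.hom π = H'.hom := Over.w j'
  exact (Category.assoc _ _ _).trans (((congrArg (v ≫ ·) e).trans (h₁.trans (congrArg (w ≫ ·) e).symm)).trans
    (Category.assoc _ _ _).symm)

include hcov in
/-- A subobject with the same points over any two lifts descends. -/
theorem exists_descend [IsAffineHom H'.hom]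
    (hsw : ∀ {T : Scheme.{u}} (x₀ x₁ : T ⟶ S'), x₀ ≫ π = x₁ ≫ π → ∀ v : T ⟶ H'.left, v ≫ H'.hom = x₀ →
      ∃ v' : T ⟶ H'.left, v' ≫ H'.hom = x₁ ∧
        v' ≫ j'.left ≫ pullback.fst G.hom π = v ≫ j'.left ≫ pullback.fst G.hom π) :
    ∃ (U : Over S) (j : U ⟶ G) (θ : Red.bc π U ≅ H'), Mono j ∧ θ.hom ≫ j' = (Over.pullback π).map j := by
  haveI hfp : DescLib.Fpqc π := ⟨DescHom.singleton_mem_fpqc π hcov⟩
  have hsw' := fun {T : Scheme.{u}} (x₀ x₁ : T ⟶ S') (hx : x₀ ≫ π = x₁ ≫ π) (v : Desc.Lifts H' x₀) =>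
    hsw x₀ x₁ hx v.1 v.2
  choose sw hsw₁ hsw₂ using @hsw'
  let mp : ∀ {T : Scheme.{u}} (x₀ x₁ : T ⟶ S'), x₀ ≫ π = x₁ ≫ π → Desc.Lifts H' x₀ → Desc.Lifts H' x₁ :=
    fun x₀ x₁ h v => ⟨sw x₀ x₁ h v, hsw₁ x₀ x₁ h v⟩
  have hext : ∀ {T : Scheme.{u}} {x : T ⟶ S'} (v w : Desc.Lifts H' x),
      v.1 ≫ j'.left ≫ pullback.fst G.hom π = w.1 ≫ j'.left ≫ pullback.fst G.hom π → v = w :=
    fun v w h => Subtype.ext (lift_ext π j' v.1 w.1 (v.2.trans w.2.symm) h)
  let D : Desc.SchDD π :=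
    { obj := H'
      φ := fun T x₀ x₁ h =>
        { toFun := mp x₀ x₁ h
          invFun := mp x₁ x₀ h.symm
          left_inv := fun v => hext _ _ ((hsw₂ _ _ _ _).trans (hsw₂ _ _ _ _))
          right_inv := fun v => hext _ _ ((hsw₂ _ _ _ _).trans (hsw₂ _ _ _ _)) }
      φ_natural := fun T T' g x₀ x₁ h h' v v' hv' => by
        refine lift_ext π j' _ _ ?_ ?_
        · show sw _ _ h' v' ≫ H'.hom = (g ≫ sw x₀ x₁ h v) ≫ H'.hom
          rw [hsw₁, Category.assoc, hsw₁]
        · show sw _ _ h' v' ≫ _ = (g ≫ sw x₀ x₁ h v) ≫ _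
          rw [hsw₂, Category.assoc, hsw₂, hv', Category.assoc]
      φ_self := fun T x v => hext _ _ (hsw₂ _ _ _ _)
      φ_comp := fun T x₀ x₁ x₂ h₀₁ h₁₂ v =>
        hext _ _ (((hsw₂ _ _ _ _).trans (hsw₂ _ _ _ _)).trans (hsw₂ _ _ _ _).symm) }
  haveI : IsAffineHom D.obj.hom := inferInstanceAs (IsAffineHom H'.hom)
  obtain ⟨U, ⟨e⟩⟩ := DescLib.effective_of_isAffineHom (p := π) D
  let el : pullback π U.hom ⟶ H'.left := e.hom.hom.left
  let e' : pullback π U.hom ≅ H'.left := ⟨el, e.inv.hom.left,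
    congrArg (fun z => z.hom.left) e.hom_inv_id, congrArg (fun z => z.hom.left) e.inv_hom_id⟩
  have hel : el ≫ H'.hom = pullback.fst π U.hom := Over.w e.hom.hom
  let θ : Red.bc π U ≅ H' := Over.isoMk (pullbackSymmetry U.hom π ≪≫ e') (by
    show ((pullbackSymmetry U.hom π).hom ≫ el) ≫ H'.hom = pullback.snd U.hom π
    rw [Category.assoc, hel, pullbackSymmetry_hom_comp_fst])
  let a : pullback U.hom π ⟶ H'.left := θ.hom.left
  have ha : a = (pullbackSymmetry U.hom π).hom ≫ el := rfl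
  have haH : a ≫ H'.hom = pullback.snd U.hom π := Over.w θ.hom
  let f : pullback U.hom π ⟶ G.left := a ≫ j'.left ≫ pullback.fst G.hom π
  let p₁ : pullback U.hom π ⟶ U.left := pullback.fst U.hom π
  haveI : EffectiveEpi p₁ := DescHom.effectiveEpi_pullback_fst π hcov U.hom
  have hf : ∀ {Z : Scheme.{u}} (g₁ g₂ : Z ⟶ pullback U.hom π), g₁ ≫ p₁ = g₂ ≫ p₁ → g₁ ≫ f = g₂ ≫ f := by
    intro Z g₁ g₂ hg
    let s := (pullbackSymmetry U.hom π).hom
    let x₁ := g₁ ≫ pullback.snd U.hom π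
    let x₂ := g₂ ≫ pullback.snd U.hom π
    have hx : x₁ ≫ π = x₂ ≫ π := by
      have := congrArg (· ≫ U.hom) hg
      simp only [p₁, Category.assoc, pullback.condition] at this
      simpa only [x₁, x₂, Category.assoc] using this
    let v : Desc.Lifts ((Desc.toDD π).obj U).obj x₁ := ⟨g₁ ≫ s, by
      show (g₁ ≫ s) ≫ pullback.fst π U.hom = x₁
      rw [Category.assoc, pullbackSymmetry_hom_comp_fst]⟩
    let w : Desc.Lifts D.obj x₁ := ⟨g₁ ≫ a, by
      show (g₁ ≫ a) ≫ H'.hom = x₁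
      rw [Category.assoc, haH]⟩
    have h1 : sw x₁ x₂ hx w = (((Desc.toDD π).obj U).φ x₁ x₂ hx v).1 ≫ el :=
      e.hom.comm x₁ x₂ hx v w (by show g₁ ≫ a = (g₁ ≫ s) ≫ el; rw [ha, Category.assoc])
    have h2 : (((Desc.toDD π).obj U).φ x₁ x₂ hx v).1 = g₂ ≫ s := by
      refine pullback.hom_ext ?_ ?_
      · refine (pullback.lift_fst _ _ _).trans ?_
        rw [Category.assoc, pullbackSymmetry_hom_comp_fst]
      · refine (pullback.lift_snd _ _ _).trans ?_
        show (g₁ ≫ s) ≫ pullback.snd π U.hom = _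
        rw [Category.assoc, Category.assoc, pullbackSymmetry_hom_comp_snd]
        exact hg
    have h3 := hsw₂ x₁ x₂ hx w
    rw [h1, h2] at h3
    show g₁ ≫ a ≫ _ = g₂ ≫ a ≫ _
    rw [← Category.assoc g₁, ← h3, ha, Category.assoc, Category.assoc, Category.assoc]
  let jl : U.left ⟶ G.left := EffectiveEpi.desc p₁ f hf
  have hjl : p₁ ≫ jl = f := EffectiveEpi.fac p₁ f hf
  have hwj : p₁ ≫ jl ≫ G.hom = p₁ ≫ U.hom := by
    rw [← Category.assoc, hjl, Category.assoc, Category.assoc]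
    show a ≫ j'.left ≫ pullback.fst G.hom π ≫ G.hom = pullback.fst U.hom π ≫ U.hom
    rw [pullback.condition, pullback.condition]
    have e₁ : j'.left ≫ pullback.snd G.hom π = H'.hom := Over.w j'
    rw [reassoc_of% e₁, reassoc_of% haH]
  let j : U ⟶ G := Over.homMk jl ((cancel_epi p₁).1 hwj)
  have hθ : θ.hom ≫ j' = (Over.pullback π).map j := by
    refine Over.OverMorphism.ext (pullback.hom_ext ?_ ?_)
    · rw [ActBC.pullback_map_left_fst, Over.comp_left, Category.assoc]
      exact hjl.symm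
    · exact (Over.w (θ.hom ≫ j')).trans (Over.w ((Over.pullback π).map j)).symm
  refine ⟨U, j, θ, ⟨fun {Y} g h hgh => map_injective π hcov g h ?_⟩, hθ⟩
  rw [← cancel_mono θ.hom, ← cancel_mono j', Category.assoc, Category.assoc, hθ, ← Functor.map_comp,
    ← Functor.map_comp, hgh]

end Groth.Agent.CentreDesc
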